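import Cfsg.Agent.Lib.SmallGroups.Basic
import Cfsg.Agent.Lib.CharTheory.Burnside
import Cfsg.Agent.S0499
import Cfsg.Agent.S0988
import Cfsg.Agent.Lib.KGroups.SmallOrdersTools

/-!
Orders at most 1092 of non-abelian simple groups: all but 26 orders are excluded by checked
certificates (two primes, small 2-part, `p²qr`, Sylow numbers).
-/

set_option autoImplicit false

namespace CfsgLib.KGroups.SmallOrders

open CfsgLib.SmallGroups

/-- Reasons excluding an order. -/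
inductive Cert
  | pq (p a q b : Nat)
  | ev
  | sqMul (p q r : Nat)
  | syl (p a m : Nat)
  | unresolved

/-- Trial division. -/
def isP (p : Nat) : Bool :=
  decide (2 ≤ p) && (List.range p).all fun d => decide (d < 2) || decide (p % d ≠ 0)

/-- The orders left to special arguments. -/
def openOrders : List Nat :=
  [60, 120, 168, 180, 264, 336, 360, 420, 480, 504, 528, 560, 612, 660, 672, 720, 756, 792, 840, 900, 960, 1008, 1040, 1056, 1080, 1092]

/-- The certificate checker. -/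
def check (n : Nat) : Cert → Bool
  | .pq p a q b => isP p && isP q && decide (n = p ^ a * q ^ b)
  | .ev => decide (n % 2 = 0) && decide (n % 12 ≠ 0) && decide (n % 16 ≠ 0) && decide (n % 56 ≠ 0)
  | .sqMul p q r => isP p && isP q && isP r && decide (n = p ^ 2 * q * r) && decide (n ≠ 60)
  | .syl p a m => isP p && decide (n = p ^ a * m) && decide (m % p ≠ 0) && decide (0 < a) &&
      (List.range (m + 1)).all fun d => !cand n p a m d
  | .unresolved => openOrders.elem n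

/-- Certificates for orders 2 to 101. -/
def table0 : List (Nat × Cert) := [
  (2, .pq 2 1 2 0), (3, .pq 3 1 3 0), (4, .pq 2 2 2 0), (5, .pq 5 1 5 0), (6, .pq 2 1 3 1),
  (7, .pq 7 1 7 0), (8, .pq 2 3 2 0), (9, .pq 3 2 3 0), (10, .pq 2 1 5 1), (11, .pq 11 1 11 0),
  (12, .pq 2 2 3 1), (13, .pq 13 1 13 0), (14, .pq 2 1 7 1), (15, .pq 3 1 5 1),
  (16, .pq 2 4 2 0), (17, .pq 17 1 17 0), (18, .pq 2 1 3 2), (19, .pq 19 1 19 0),
  (20, .pq 2 2 5 1), (21, .pq 3 1 7 1), (22, .pq 2 1 11 1), (23, .pq 23 1 23 0),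
  (24, .pq 2 3 3 1), (25, .pq 5 2 5 0), (26, .pq 2 1 13 1), (27, .pq 3 3 3 0), (28, .pq 2 2 7 1),
  (29, .pq 29 1 29 0), (30, .ev), (31, .pq 31 1 31 0), (32, .pq 2 5 2 0), (33, .pq 3 1 11 1),
  (34, .pq 2 1 17 1), (35, .pq 5 1 7 1), (36, .pq 2 2 3 2), (37, .pq 37 1 37 0),
  (38, .pq 2 1 19 1), (39, .pq 3 1 13 1), (40, .pq 2 3 5 1), (41, .pq 41 1 41 0), (42, .ev),
  (43, .pq 43 1 43 0), (44, .pq 2 2 11 1), (45, .pq 3 2 5 1), (46, .pq 2 1 23 1),
  (47, .pq 47 1 47 0), (48, .pq 2 4 3 1), (49, .pq 7 2 7 0), (50, .pq 2 1 5 2),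
  (51, .pq 3 1 17 1), (52, .pq 2 2 13 1), (53, .pq 53 1 53 0), (54, .pq 2 1 3 3),
  (55, .pq 5 1 11 1), (56, .pq 2 3 7 1), (57, .pq 3 1 19 1), (58, .pq 2 1 29 1),
  (59, .pq 59 1 59 0), (60, .unresolved), (61, .pq 61 1 61 0), (62, .pq 2 1 31 1),
  (63, .pq 3 2 7 1), (64, .pq 2 6 2 0), (65, .pq 5 1 13 1), (66, .ev), (67, .pq 67 1 67 0),
  (68, .pq 2 2 17 1), (69, .pq 3 1 23 1), (70, .ev), (71, .pq 71 1 71 0), (72, .pq 2 3 3 2),
  (73, .pq 73 1 73 0), (74, .pq 2 1 37 1), (75, .pq 3 1 5 2), (76, .pq 2 2 19 1),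
  (77, .pq 7 1 11 1), (78, .ev), (79, .pq 79 1 79 0), (80, .pq 2 4 5 1), (81, .pq 3 4 3 0),
  (82, .pq 2 1 41 1), (83, .pq 83 1 83 0), (84, .sqMul 2 3 7), (85, .pq 5 1 17 1),
  (86, .pq 2 1 43 1), (87, .pq 3 1 29 1), (88, .pq 2 3 11 1), (89, .pq 89 1 89 0), (90, .ev),
  (91, .pq 7 1 13 1), (92, .pq 2 2 23 1), (93, .pq 3 1 31 1), (94, .pq 2 1 47 1),
  (95, .pq 5 1 19 1), (96, .pq 2 5 3 1), (97, .pq 97 1 97 0), (98, .pq 2 1 7 2),
  (99, .pq 3 2 11 1), (100, .pq 2 2 5 2), (101, .pq 101 1 101 0)]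

/-- Certificates for orders 102 to 201. -/
def table1 : List (Nat × Cert) := [
  (102, .ev), (103, .pq 103 1 103 0), (104, .pq 2 3 13 1), (105, .syl 7 1 15),
  (106, .pq 2 1 53 1), (107, .pq 107 1 107 0), (108, .pq 2 2 3 3), (109, .pq 109 1 109 0),
  (110, .ev), (111, .pq 3 1 37 1), (112, .pq 2 4 7 1), (113, .pq 113 1 113 0), (114, .ev),
  (115, .pq 5 1 23 1), (116, .pq 2 2 29 1), (117, .pq 3 2 13 1), (118, .pq 2 1 59 1),
  (119, .pq 7 1 17 1), (120, .unresolved), (121, .pq 11 2 11 0), (122, .pq 2 1 61 1),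
  (123, .pq 3 1 41 1), (124, .pq 2 2 31 1), (125, .pq 5 3 5 0), (126, .ev),
  (127, .pq 127 1 127 0), (128, .pq 2 7 2 0), (129, .pq 3 1 43 1), (130, .ev),
  (131, .pq 131 1 131 0), (132, .sqMul 2 3 11), (133, .pq 7 1 19 1), (134, .pq 2 1 67 1),
  (135, .pq 3 3 5 1), (136, .pq 2 3 17 1), (137, .pq 137 1 137 0), (138, .ev),
  (139, .pq 139 1 139 0), (140, .ev), (141, .pq 3 1 47 1), (142, .pq 2 1 71 1),
  (143, .pq 11 1 13 1), (144, .pq 2 4 3 2), (145, .pq 5 1 29 1), (146, .pq 2 1 73 1),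
  (147, .pq 3 1 7 2), (148, .pq 2 2 37 1), (149, .pq 149 1 149 0), (150, .ev),
  (151, .pq 151 1 151 0), (152, .pq 2 3 19 1), (153, .pq 3 2 17 1), (154, .ev),
  (155, .pq 5 1 31 1), (156, .sqMul 2 3 13), (157, .pq 157 1 157 0), (158, .pq 2 1 79 1),
  (159, .pq 3 1 53 1), (160, .pq 2 5 5 1), (161, .pq 7 1 23 1), (162, .pq 2 1 3 4),
  (163, .pq 163 1 163 0), (164, .pq 2 2 41 1), (165, .syl 11 1 15), (166, .pq 2 1 83 1),
  (167, .pq 167 1 167 0), (168, .unresolved), (169, .pq 13 2 13 0), (170, .ev),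
  (171, .pq 3 2 19 1), (172, .pq 2 2 43 1), (173, .pq 173 1 173 0), (174, .ev),
  (175, .pq 5 2 7 1), (176, .pq 2 4 11 1), (177, .pq 3 1 59 1), (178, .pq 2 1 89 1),
  (179, .pq 179 1 179 0), (180, .unresolved), (181, .pq 181 1 181 0), (182, .ev),
  (183, .pq 3 1 61 1), (184, .pq 2 3 23 1), (185, .pq 5 1 37 1), (186, .ev),
  (187, .pq 11 1 17 1), (188, .pq 2 2 47 1), (189, .pq 3 3 7 1), (190, .ev),
  (191, .pq 191 1 191 0), (192, .pq 2 6 3 1), (193, .pq 193 1 193 0), (194, .pq 2 1 97 1),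
  (195, .syl 13 1 15), (196, .pq 2 2 7 2), (197, .pq 197 1 197 0), (198, .ev),
  (199, .pq 199 1 199 0), (200, .pq 2 3 5 2), (201, .pq 3 1 67 1)]

/-- Certificates for orders 202 to 301. -/
def table2 : List (Nat × Cert) := [
  (202, .pq 2 1 101 1), (203, .pq 7 1 29 1), (204, .sqMul 2 3 17), (205, .pq 5 1 41 1),
  (206, .pq 2 1 103 1), (207, .pq 3 2 23 1), (208, .pq 2 4 13 1), (209, .pq 11 1 19 1),
  (210, .ev), (211, .pq 211 1 211 0), (212, .pq 2 2 53 1), (213, .pq 3 1 71 1),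
  (214, .pq 2 1 107 1), (215, .pq 5 1 43 1), (216, .pq 2 3 3 3), (217, .pq 7 1 31 1),
  (218, .pq 2 1 109 1), (219, .pq 3 1 73 1), (220, .ev), (221, .pq 13 1 17 1), (222, .ev),
  (223, .pq 223 1 223 0), (224, .pq 2 5 7 1), (225, .pq 3 2 5 2), (226, .pq 2 1 113 1),
  (227, .pq 227 1 227 0), (228, .sqMul 2 3 19), (229, .pq 229 1 229 0), (230, .ev),
  (231, .syl 11 1 21), (232, .pq 2 3 29 1), (233, .pq 233 1 233 0), (234, .ev),
  (235, .pq 5 1 47 1), (236, .pq 2 2 59 1), (237, .pq 3 1 79 1), (238, .ev),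
  (239, .pq 239 1 239 0), (240, .syl 5 1 48), (241, .pq 241 1 241 0), (242, .pq 2 1 11 2),
  (243, .pq 3 5 3 0), (244, .pq 2 2 61 1), (245, .pq 5 1 7 2), (246, .ev), (247, .pq 13 1 19 1),
  (248, .pq 2 3 31 1), (249, .pq 3 1 83 1), (250, .pq 2 1 5 3), (251, .pq 251 1 251 0),
  (252, .syl 7 1 36), (253, .pq 11 1 23 1), (254, .pq 2 1 127 1), (255, .syl 17 1 15),
  (256, .pq 2 8 2 0), (257, .pq 257 1 257 0), (258, .ev), (259, .pq 7 1 37 1), (260, .ev),
  (261, .pq 3 2 29 1), (262, .pq 2 1 131 1), (263, .pq 263 1 263 0), (264, .unresolved),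
  (265, .pq 5 1 53 1), (266, .ev), (267, .pq 3 1 89 1), (268, .pq 2 2 67 1),
  (269, .pq 269 1 269 0), (270, .ev), (271, .pq 271 1 271 0), (272, .pq 2 4 17 1),
  (273, .syl 13 1 21), (274, .pq 2 1 137 1), (275, .pq 5 2 11 1), (276, .sqMul 2 3 23),
  (277, .pq 277 1 277 0), (278, .pq 2 1 139 1), (279, .pq 3 2 31 1), (280, .syl 7 1 40),
  (281, .pq 281 1 281 0), (282, .ev), (283, .pq 283 1 283 0), (284, .pq 2 2 71 1),
  (285, .syl 19 1 15), (286, .ev), (287, .pq 7 1 41 1), (288, .pq 2 5 3 2), (289, .pq 17 2 17 0),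
  (290, .ev), (291, .pq 3 1 97 1), (292, .pq 2 2 73 1), (293, .pq 293 1 293 0), (294, .ev),
  (295, .pq 5 1 59 1), (296, .pq 2 3 37 1), (297, .pq 3 3 11 1), (298, .pq 2 1 149 1),
  (299, .pq 13 1 23 1), (300, .syl 5 2 12), (301, .pq 7 1 43 1)]

/-- Certificates for orders 302 to 401. -/
def table3 : List (Nat × Cert) := [
  (302, .pq 2 1 151 1), (303, .pq 3 1 101 1), (304, .pq 2 4 19 1), (305, .pq 5 1 61 1),
  (306, .ev), (307, .pq 307 1 307 0), (308, .ev), (309, .pq 3 1 103 1), (310, .ev),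
  (311, .pq 311 1 311 0), (312, .syl 13 1 24), (313, .pq 313 1 313 0), (314, .pq 2 1 157 1),
  (315, .sqMul 3 5 7), (316, .pq 2 2 79 1), (317, .pq 317 1 317 0), (318, .ev),
  (319, .pq 11 1 29 1), (320, .pq 2 6 5 1), (321, .pq 3 1 107 1), (322, .ev),
  (323, .pq 17 1 19 1), (324, .pq 2 2 3 4), (325, .pq 5 2 13 1), (326, .pq 2 1 163 1),
  (327, .pq 3 1 109 1), (328, .pq 2 3 41 1), (329, .pq 7 1 47 1), (330, .ev),
  (331, .pq 331 1 331 0), (332, .pq 2 2 83 1), (333, .pq 3 2 37 1), (334, .pq 2 1 167 1),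
  (335, .pq 5 1 67 1), (336, .unresolved), (337, .pq 337 1 337 0), (338, .pq 2 1 13 2),
  (339, .pq 3 1 113 1), (340, .ev), (341, .pq 11 1 31 1), (342, .ev), (343, .pq 7 3 7 0),
  (344, .pq 2 3 43 1), (345, .syl 23 1 15), (346, .pq 2 1 173 1), (347, .pq 347 1 347 0),
  (348, .sqMul 2 3 29), (349, .pq 349 1 349 0), (350, .ev), (351, .pq 3 3 13 1),
  (352, .pq 2 5 11 1), (353, .pq 353 1 353 0), (354, .ev), (355, .pq 5 1 71 1),
  (356, .pq 2 2 89 1), (357, .syl 17 1 21), (358, .pq 2 1 179 1), (359, .pq 359 1 359 0),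
  (360, .unresolved), (361, .pq 19 2 19 0), (362, .pq 2 1 181 1), (363, .pq 3 1 11 2),
  (364, .ev), (365, .pq 5 1 73 1), (366, .ev), (367, .pq 367 1 367 0), (368, .pq 2 4 23 1),
  (369, .pq 3 2 41 1), (370, .ev), (371, .pq 7 1 53 1), (372, .sqMul 2 3 31),
  (373, .pq 373 1 373 0), (374, .ev), (375, .pq 3 1 5 3), (376, .pq 2 3 47 1),
  (377, .pq 13 1 29 1), (378, .ev), (379, .pq 379 1 379 0), (380, .ev), (381, .pq 3 1 127 1),
  (382, .pq 2 1 191 1), (383, .pq 383 1 383 0), (384, .pq 2 7 3 1), (385, .syl 11 1 35),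
  (386, .pq 2 1 193 1), (387, .pq 3 2 43 1), (388, .pq 2 2 97 1), (389, .pq 389 1 389 0),
  (390, .ev), (391, .pq 17 1 23 1), (392, .pq 2 3 7 2), (393, .pq 3 1 131 1),
  (394, .pq 2 1 197 1), (395, .pq 5 1 79 1), (396, .syl 11 1 36), (397, .pq 397 1 397 0),
  (398, .pq 2 1 199 1), (399, .syl 19 1 21), (400, .pq 2 4 5 2), (401, .pq 401 1 401 0)]

/-- Certificates for orders 402 to 501. -/
def table4 : List (Nat × Cert) := [
  (402, .ev), (403, .pq 13 1 31 1), (404, .pq 2 2 101 1), (405, .pq 3 4 5 1), (406, .ev),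
  (407, .pq 11 1 37 1), (408, .syl 17 1 24), (409, .pq 409 1 409 0), (410, .ev),
  (411, .pq 3 1 137 1), (412, .pq 2 2 103 1), (413, .pq 7 1 59 1), (414, .ev),
  (415, .pq 5 1 83 1), (416, .pq 2 5 13 1), (417, .pq 3 1 139 1), (418, .ev),
  (419, .pq 419 1 419 0), (420, .unresolved), (421, .pq 421 1 421 0), (422, .pq 2 1 211 1),
  (423, .pq 3 2 47 1), (424, .pq 2 3 53 1), (425, .pq 5 2 17 1), (426, .ev), (427, .pq 7 1 61 1),
  (428, .pq 2 2 107 1), (429, .syl 13 1 33), (430, .ev), (431, .pq 431 1 431 0),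
  (432, .pq 2 4 3 3), (433, .pq 433 1 433 0), (434, .ev), (435, .syl 29 1 15),
  (436, .pq 2 2 109 1), (437, .pq 19 1 23 1), (438, .ev), (439, .pq 439 1 439 0), (440, .ev),
  (441, .pq 3 2 7 2), (442, .ev), (443, .pq 443 1 443 0), (444, .sqMul 2 3 37),
  (445, .pq 5 1 89 1), (446, .pq 2 1 223 1), (447, .pq 3 1 149 1), (448, .pq 2 6 7 1),
  (449, .pq 449 1 449 0), (450, .ev), (451, .pq 11 1 41 1), (452, .pq 2 2 113 1),
  (453, .pq 3 1 151 1), (454, .pq 2 1 227 1), (455, .syl 13 1 35), (456, .syl 19 1 24),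
  (457, .pq 457 1 457 0), (458, .pq 2 1 229 1), (459, .pq 3 3 17 1), (460, .ev),
  (461, .pq 461 1 461 0), (462, .ev), (463, .pq 463 1 463 0), (464, .pq 2 4 29 1),
  (465, .syl 31 1 15), (466, .pq 2 1 233 1), (467, .pq 467 1 467 0), (468, .syl 13 1 36),
  (469, .pq 7 1 67 1), (470, .ev), (471, .pq 3 1 157 1), (472, .pq 2 3 59 1),
  (473, .pq 11 1 43 1), (474, .ev), (475, .pq 5 2 19 1), (476, .ev), (477, .pq 3 2 53 1),
  (478, .pq 2 1 239 1), (479, .pq 479 1 479 0), (480, .unresolved), (481, .pq 13 1 37 1),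
  (482, .pq 2 1 241 1), (483, .syl 23 1 21), (484, .pq 2 2 11 2), (485, .pq 5 1 97 1),
  (486, .pq 2 1 3 5), (487, .pq 487 1 487 0), (488, .pq 2 3 61 1), (489, .pq 3 1 163 1),
  (490, .ev), (491, .pq 491 1 491 0), (492, .sqMul 2 3 41), (493, .pq 17 1 29 1), (494, .ev),
  (495, .sqMul 3 5 11), (496, .pq 2 4 31 1), (497, .pq 7 1 71 1), (498, .ev),
  (499, .pq 499 1 499 0), (500, .pq 2 2 5 3), (501, .pq 3 1 167 1)]

/-- Certificates for orders 502 to 601. -/
def table5 : List (Nat × Cert) := [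
  (502, .pq 2 1 251 1), (503, .pq 503 1 503 0), (504, .unresolved), (505, .pq 5 1 101 1),
  (506, .ev), (507, .pq 3 1 13 2), (508, .pq 2 2 127 1), (509, .pq 509 1 509 0), (510, .ev),
  (511, .pq 7 1 73 1), (512, .pq 2 9 2 0), (513, .pq 3 3 19 1), (514, .pq 2 1 257 1),
  (515, .pq 5 1 103 1), (516, .sqMul 2 3 43), (517, .pq 11 1 47 1), (518, .ev),
  (519, .pq 3 1 173 1), (520, .ev), (521, .pq 521 1 521 0), (522, .ev), (523, .pq 523 1 523 0),
  (524, .pq 2 2 131 1), (525, .sqMul 5 3 7), (526, .pq 2 1 263 1), (527, .pq 17 1 31 1),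
  (528, .unresolved), (529, .pq 23 2 23 0), (530, .ev), (531, .pq 3 2 59 1), (532, .ev),
  (533, .pq 13 1 41 1), (534, .ev), (535, .pq 5 1 107 1), (536, .pq 2 3 67 1),
  (537, .pq 3 1 179 1), (538, .pq 2 1 269 1), (539, .pq 7 2 11 1), (540, .syl 5 1 108),
  (541, .pq 541 1 541 0), (542, .pq 2 1 271 1), (543, .pq 3 1 181 1), (544, .pq 2 5 17 1),
  (545, .pq 5 1 109 1), (546, .ev), (547, .pq 547 1 547 0), (548, .pq 2 2 137 1),
  (549, .pq 3 2 61 1), (550, .ev), (551, .pq 19 1 29 1), (552, .syl 23 1 24),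
  (553, .pq 7 1 79 1), (554, .pq 2 1 277 1), (555, .syl 37 1 15), (556, .pq 2 2 139 1),
  (557, .pq 557 1 557 0), (558, .ev), (559, .pq 13 1 43 1), (560, .unresolved),
  (561, .syl 17 1 33), (562, .pq 2 1 281 1), (563, .pq 563 1 563 0), (564, .sqMul 2 3 47),
  (565, .pq 5 1 113 1), (566, .pq 2 1 283 1), (567, .pq 3 4 7 1), (568, .pq 2 3 71 1),
  (569, .pq 569 1 569 0), (570, .ev), (571, .pq 571 1 571 0), (572, .ev), (573, .pq 3 1 191 1),
  (574, .ev), (575, .pq 5 2 23 1), (576, .pq 2 6 3 2), (577, .pq 577 1 577 0),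
  (578, .pq 2 1 17 2), (579, .pq 3 1 193 1), (580, .ev), (581, .pq 7 1 83 1), (582, .ev),
  (583, .pq 11 1 53 1), (584, .pq 2 3 73 1), (585, .sqMul 3 5 13), (586, .pq 2 1 293 1),
  (587, .pq 587 1 587 0), (588, .syl 7 2 12), (589, .pq 19 1 31 1), (590, .ev),
  (591, .pq 3 1 197 1), (592, .pq 2 4 37 1), (593, .pq 593 1 593 0), (594, .ev),
  (595, .syl 17 1 35), (596, .pq 2 2 149 1), (597, .pq 3 1 199 1), (598, .ev),
  (599, .pq 599 1 599 0), (600, .syl 5 2 24), (601, .pq 601 1 601 0)]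

/-- Certificates for orders 602 to 701. -/
def table6 : List (Nat × Cert) := [
  (602, .ev), (603, .pq 3 2 67 1), (604, .pq 2 2 151 1), (605, .pq 5 1 11 2), (606, .ev),
  (607, .pq 607 1 607 0), (608, .pq 2 5 19 1), (609, .syl 29 1 21), (610, .ev),
  (611, .pq 13 1 47 1), (612, .unresolved), (613, .pq 613 1 613 0), (614, .pq 2 1 307 1),
  (615, .syl 41 1 15), (616, .syl 11 1 56), (617, .pq 617 1 617 0), (618, .ev),
  (619, .pq 619 1 619 0), (620, .ev), (621, .pq 3 3 23 1), (622, .pq 2 1 311 1),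
  (623, .pq 7 1 89 1), (624, .syl 13 1 48), (625, .pq 5 4 5 0), (626, .pq 2 1 313 1),
  (627, .syl 19 1 33), (628, .pq 2 2 157 1), (629, .pq 17 1 37 1), (630, .ev),
  (631, .pq 631 1 631 0), (632, .pq 2 3 79 1), (633, .pq 3 1 211 1), (634, .pq 2 1 317 1),
  (635, .pq 5 1 127 1), (636, .sqMul 2 3 53), (637, .pq 7 2 13 1), (638, .ev),
  (639, .pq 3 2 71 1), (640, .pq 2 7 5 1), (641, .pq 641 1 641 0), (642, .ev),
  (643, .pq 643 1 643 0), (644, .ev), (645, .syl 43 1 15), (646, .ev), (647, .pq 647 1 647 0),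
  (648, .pq 2 3 3 4), (649, .pq 11 1 59 1), (650, .ev), (651, .syl 31 1 21),
  (652, .pq 2 2 163 1), (653, .pq 653 1 653 0), (654, .ev), (655, .pq 5 1 131 1),
  (656, .pq 2 4 41 1), (657, .pq 3 2 73 1), (658, .ev), (659, .pq 659 1 659 0),
  (660, .unresolved), (661, .pq 661 1 661 0), (662, .pq 2 1 331 1), (663, .syl 17 1 39),
  (664, .pq 2 3 83 1), (665, .syl 19 1 35), (666, .ev), (667, .pq 23 1 29 1),
  (668, .pq 2 2 167 1), (669, .pq 3 1 223 1), (670, .ev), (671, .pq 11 1 61 1),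
  (672, .unresolved), (673, .pq 673 1 673 0), (674, .pq 2 1 337 1), (675, .pq 3 3 5 2),
  (676, .pq 2 2 13 2), (677, .pq 677 1 677 0), (678, .ev), (679, .pq 7 1 97 1), (680, .ev),
  (681, .pq 3 1 227 1), (682, .ev), (683, .pq 683 1 683 0), (684, .syl 19 1 36),
  (685, .pq 5 1 137 1), (686, .pq 2 1 7 3), (687, .pq 3 1 229 1), (688, .pq 2 4 43 1),
  (689, .pq 13 1 53 1), (690, .ev), (691, .pq 691 1 691 0), (692, .pq 2 2 173 1),
  (693, .sqMul 3 7 11), (694, .pq 2 1 347 1), (695, .pq 5 1 139 1), (696, .syl 29 1 24),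
  (697, .pq 17 1 41 1), (698, .pq 2 1 349 1), (699, .pq 3 1 233 1), (700, .ev),
  (701, .pq 701 1 701 0)]

/-- Certificates for orders 702 to 801. -/
def table7 : List (Nat × Cert) := [
  (702, .ev), (703, .pq 19 1 37 1), (704, .pq 2 6 11 1), (705, .syl 47 1 15),
  (706, .pq 2 1 353 1), (707, .pq 7 1 101 1), (708, .sqMul 2 3 59), (709, .pq 709 1 709 0),
  (710, .ev), (711, .pq 3 2 79 1), (712, .pq 2 3 89 1), (713, .pq 23 1 31 1), (714, .ev),
  (715, .syl 13 1 55), (716, .pq 2 2 179 1), (717, .pq 3 1 239 1), (718, .pq 2 1 359 1),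
  (719, .pq 719 1 719 0), (720, .unresolved), (721, .pq 7 1 103 1), (722, .pq 2 1 19 2),
  (723, .pq 3 1 241 1), (724, .pq 2 2 181 1), (725, .pq 5 2 29 1), (726, .ev),
  (727, .pq 727 1 727 0), (728, .syl 7 1 104), (729, .pq 3 6 3 0), (730, .ev),
  (731, .pq 17 1 43 1), (732, .sqMul 2 3 61), (733, .pq 733 1 733 0), (734, .pq 2 1 367 1),
  (735, .sqMul 7 3 5), (736, .pq 2 5 23 1), (737, .pq 11 1 67 1), (738, .ev),
  (739, .pq 739 1 739 0), (740, .ev), (741, .syl 19 1 39), (742, .ev), (743, .pq 743 1 743 0),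
  (744, .syl 31 1 24), (745, .pq 5 1 149 1), (746, .pq 2 1 373 1), (747, .pq 3 2 83 1),
  (748, .ev), (749, .pq 7 1 107 1), (750, .ev), (751, .pq 751 1 751 0), (752, .pq 2 4 47 1),
  (753, .pq 3 1 251 1), (754, .ev), (755, .pq 5 1 151 1), (756, .unresolved),
  (757, .pq 757 1 757 0), (758, .pq 2 1 379 1), (759, .syl 23 1 33), (760, .ev),
  (761, .pq 761 1 761 0), (762, .ev), (763, .pq 7 1 109 1), (764, .pq 2 2 191 1),
  (765, .sqMul 3 5 17), (766, .pq 2 1 383 1), (767, .pq 13 1 59 1), (768, .pq 2 8 3 1),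
  (769, .pq 769 1 769 0), (770, .ev), (771, .pq 3 1 257 1), (772, .pq 2 2 193 1),
  (773, .pq 773 1 773 0), (774, .ev), (775, .pq 5 2 31 1), (776, .pq 2 3 97 1),
  (777, .syl 37 1 21), (778, .pq 2 1 389 1), (779, .pq 19 1 41 1), (780, .syl 13 1 60),
  (781, .pq 11 1 71 1), (782, .ev), (783, .pq 3 3 29 1), (784, .pq 2 4 7 2),
  (785, .pq 5 1 157 1), (786, .ev), (787, .pq 787 1 787 0), (788, .pq 2 2 197 1),
  (789, .pq 3 1 263 1), (790, .ev), (791, .pq 7 1 113 1), (792, .unresolved),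
  (793, .pq 13 1 61 1), (794, .pq 2 1 397 1), (795, .syl 53 1 15), (796, .pq 2 2 199 1),
  (797, .pq 797 1 797 0), (798, .ev), (799, .pq 17 1 47 1), (800, .pq 2 5 5 2),
  (801, .pq 3 2 89 1)]

/-- Certificates for orders 802 to 901. -/
def table8 : List (Nat × Cert) := [
  (802, .pq 2 1 401 1), (803, .pq 11 1 73 1), (804, .sqMul 2 3 67), (805, .syl 23 1 35),
  (806, .ev), (807, .pq 3 1 269 1), (808, .pq 2 3 101 1), (809, .pq 809 1 809 0), (810, .ev),
  (811, .pq 811 1 811 0), (812, .ev), (813, .pq 3 1 271 1), (814, .ev), (815, .pq 5 1 163 1),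
  (816, .syl 17 1 48), (817, .pq 19 1 43 1), (818, .pq 2 1 409 1), (819, .sqMul 3 7 13),
  (820, .ev), (821, .pq 821 1 821 0), (822, .ev), (823, .pq 823 1 823 0), (824, .pq 2 3 103 1),
  (825, .sqMul 5 3 11), (826, .ev), (827, .pq 827 1 827 0), (828, .syl 23 1 36),
  (829, .pq 829 1 829 0), (830, .ev), (831, .pq 3 1 277 1), (832, .pq 2 6 13 1),
  (833, .pq 7 2 17 1), (834, .ev), (835, .pq 5 1 167 1), (836, .ev), (837, .pq 3 3 31 1),
  (838, .pq 2 1 419 1), (839, .pq 839 1 839 0), (840, .unresolved), (841, .pq 29 2 29 0),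
  (842, .pq 2 1 421 1), (843, .pq 3 1 281 1), (844, .pq 2 2 211 1), (845, .pq 5 1 13 2),
  (846, .ev), (847, .pq 7 1 11 2), (848, .pq 2 4 53 1), (849, .pq 3 1 283 1), (850, .ev),
  (851, .pq 23 1 37 1), (852, .sqMul 2 3 71), (853, .pq 853 1 853 0), (854, .ev),
  (855, .sqMul 3 5 19), (856, .pq 2 3 107 1), (857, .pq 857 1 857 0), (858, .ev),
  (859, .pq 859 1 859 0), (860, .ev), (861, .syl 41 1 21), (862, .pq 2 1 431 1),
  (863, .pq 863 1 863 0), (864, .pq 2 5 3 3), (865, .pq 5 1 173 1), (866, .pq 2 1 433 1),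
  (867, .pq 3 1 17 2), (868, .ev), (869, .pq 11 1 79 1), (870, .ev), (871, .pq 13 1 67 1),
  (872, .pq 2 3 109 1), (873, .pq 3 2 97 1), (874, .ev), (875, .pq 5 3 7 1),
  (876, .sqMul 2 3 73), (877, .pq 877 1 877 0), (878, .pq 2 1 439 1), (879, .pq 3 1 293 1),
  (880, .syl 11 1 80), (881, .pq 881 1 881 0), (882, .ev), (883, .pq 883 1 883 0), (884, .ev),
  (885, .syl 59 1 15), (886, .pq 2 1 443 1), (887, .pq 887 1 887 0), (888, .syl 37 1 24),
  (889, .pq 7 1 127 1), (890, .ev), (891, .pq 3 4 11 1), (892, .pq 2 2 223 1),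
  (893, .pq 19 1 47 1), (894, .ev), (895, .pq 5 1 179 1), (896, .pq 2 7 7 1),
  (897, .syl 23 1 39), (898, .pq 2 1 449 1), (899, .pq 29 1 31 1), (900, .unresolved),
  (901, .pq 17 1 53 1)]

/-- Certificates for orders 902 to 1001. -/
def table9 : List (Nat × Cert) := [
  (902, .ev), (903, .syl 43 1 21), (904, .pq 2 3 113 1), (905, .pq 5 1 181 1), (906, .ev),
  (907, .pq 907 1 907 0), (908, .pq 2 2 227 1), (909, .pq 3 2 101 1), (910, .ev),
  (911, .pq 911 1 911 0), (912, .syl 19 1 48), (913, .pq 11 1 83 1), (914, .pq 2 1 457 1),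
  (915, .syl 61 1 15), (916, .pq 2 2 229 1), (917, .pq 7 1 131 1), (918, .ev),
  (919, .pq 919 1 919 0), (920, .ev), (921, .pq 3 1 307 1), (922, .pq 2 1 461 1),
  (923, .pq 13 1 71 1), (924, .syl 11 1 84), (925, .pq 5 2 37 1), (926, .pq 2 1 463 1),
  (927, .pq 3 2 103 1), (928, .pq 2 5 29 1), (929, .pq 929 1 929 0), (930, .ev),
  (931, .pq 7 2 19 1), (932, .pq 2 2 233 1), (933, .pq 3 1 311 1), (934, .pq 2 1 467 1),
  (935, .syl 17 1 55), (936, .syl 13 1 72), (937, .pq 937 1 937 0), (938, .ev),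
  (939, .pq 3 1 313 1), (940, .ev), (941, .pq 941 1 941 0), (942, .ev), (943, .pq 23 1 41 1),
  (944, .pq 2 4 59 1), (945, .syl 5 1 189), (946, .ev), (947, .pq 947 1 947 0),
  (948, .sqMul 2 3 79), (949, .pq 13 1 73 1), (950, .ev), (951, .pq 3 1 317 1),
  (952, .syl 17 1 56), (953, .pq 953 1 953 0), (954, .ev), (955, .pq 5 1 191 1),
  (956, .pq 2 2 239 1), (957, .syl 29 1 33), (958, .pq 2 1 479 1), (959, .pq 7 1 137 1),
  (960, .unresolved), (961, .pq 31 2 31 0), (962, .ev), (963, .pq 3 2 107 1),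
  (964, .pq 2 2 241 1), (965, .pq 5 1 193 1), (966, .ev), (967, .pq 967 1 967 0),
  (968, .pq 2 3 11 2), (969, .syl 19 1 51), (970, .ev), (971, .pq 971 1 971 0),
  (972, .pq 2 2 3 5), (973, .pq 7 1 139 1), (974, .pq 2 1 487 1), (975, .sqMul 5 3 13),
  (976, .pq 2 4 61 1), (977, .pq 977 1 977 0), (978, .ev), (979, .pq 11 1 89 1), (980, .ev),
  (981, .pq 3 2 109 1), (982, .pq 2 1 491 1), (983, .pq 983 1 983 0), (984, .syl 41 1 24),
  (985, .pq 5 1 197 1), (986, .ev), (987, .syl 47 1 21), (988, .ev), (989, .pq 23 1 43 1),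
  (990, .ev), (991, .pq 991 1 991 0), (992, .pq 2 5 31 1), (993, .pq 3 1 331 1), (994, .ev),
  (995, .pq 5 1 199 1), (996, .sqMul 2 3 83), (997, .pq 997 1 997 0), (998, .pq 2 1 499 1),
  (999, .pq 3 3 37 1), (1000, .pq 2 3 5 3), (1001, .syl 13 1 77)]

/-- Certificates for orders 1002 to 1092. -/
def table10 : List (Nat × Cert) := [
  (1002, .ev), (1003, .pq 17 1 59 1), (1004, .pq 2 2 251 1), (1005, .syl 67 1 15),
  (1006, .pq 2 1 503 1), (1007, .pq 19 1 53 1), (1008, .unresolved), (1009, .pq 1009 1 1009 0),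
  (1010, .ev), (1011, .pq 3 1 337 1), (1012, .ev), (1013, .pq 1013 1 1013 0), (1014, .ev),
  (1015, .syl 29 1 35), (1016, .pq 2 3 127 1), (1017, .pq 3 2 113 1), (1018, .pq 2 1 509 1),
  (1019, .pq 1019 1 1019 0), (1020, .syl 17 1 60), (1021, .pq 1021 1 1021 0), (1022, .ev),
  (1023, .syl 31 1 33), (1024, .pq 2 10 2 0), (1025, .pq 5 2 41 1), (1026, .ev),
  (1027, .pq 13 1 79 1), (1028, .pq 2 2 257 1), (1029, .pq 3 1 7 3), (1030, .ev),
  (1031, .pq 1031 1 1031 0), (1032, .syl 43 1 24), (1033, .pq 1033 1 1033 0), (1034, .ev),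
  (1035, .sqMul 3 5 23), (1036, .ev), (1037, .pq 17 1 61 1), (1038, .ev),
  (1039, .pq 1039 1 1039 0), (1040, .unresolved), (1041, .pq 3 1 347 1), (1042, .pq 2 1 521 1),
  (1043, .pq 7 1 149 1), (1044, .syl 29 1 36), (1045, .syl 19 1 55), (1046, .pq 2 1 523 1),
  (1047, .pq 3 1 349 1), (1048, .pq 2 3 131 1), (1049, .pq 1049 1 1049 0), (1050, .ev),
  (1051, .pq 1051 1 1051 0), (1052, .pq 2 2 263 1), (1053, .pq 3 4 13 1), (1054, .ev),
  (1055, .pq 5 1 211 1), (1056, .unresolved), (1057, .pq 7 1 151 1), (1058, .pq 2 1 23 2),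
  (1059, .pq 3 1 353 1), (1060, .ev), (1061, .pq 1061 1 1061 0), (1062, .ev),
  (1063, .pq 1063 1 1063 0), (1064, .syl 19 1 56), (1065, .syl 71 1 15), (1066, .ev),
  (1067, .pq 11 1 97 1), (1068, .sqMul 2 3 89), (1069, .pq 1069 1 1069 0), (1070, .ev),
  (1071, .sqMul 3 7 17), (1072, .pq 2 4 67 1), (1073, .pq 29 1 37 1), (1074, .ev),
  (1075, .pq 5 2 43 1), (1076, .pq 2 2 269 1), (1077, .pq 3 1 359 1), (1078, .ev),
  (1079, .pq 13 1 83 1), (1080, .unresolved), (1081, .pq 23 1 47 1), (1082, .pq 2 1 541 1),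
  (1083, .pq 3 1 19 2), (1084, .pq 2 2 271 1), (1085, .syl 31 1 35), (1086, .ev),
  (1087, .pq 1087 1 1087 0), (1088, .pq 2 6 17 1), (1089, .pq 3 2 11 2), (1090, .ev),
  (1091, .pq 1091 1 1091 0), (1092, .unresolved)]

/-- All certificates. -/
def table : List (Nat × Cert) :=
  table0 ++ table1 ++ table2 ++ table3 ++ table4 ++ table5 ++ table6 ++ table7 ++ table8 ++ table9 ++ table10

theorem table0_ok : table0.all (fun x => check x.1 x.2) = true := by decide +kernel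

theorem table1_ok : table1.all (fun x => check x.1 x.2) = true := by decide +kernel

theorem table2_ok : table2.all (fun x => check x.1 x.2) = true := by decide +kernel

theorem table3_ok : table3.all (fun x => check x.1 x.2) = true := by decide +kernel

theorem table4_ok : table4.all (fun x => check x.1 x.2) = true := by decide +kernel

theorem table5_ok : table5.all (fun x => check x.1 x.2) = true := by decide +kernel

theorem table6_ok : table6.all (fun x => check x.1 x.2) = true := by decide +kernel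

theorem table7_ok : table7.all (fun x => check x.1 x.2) = true := by decide +kernel

theorem table8_ok : table8.all (fun x => check x.1 x.2) = true := by decide +kernel

theorem table9_ok : table9.all (fun x => check x.1 x.2) = true := by decide +kernel

theorem table10_ok : table10.all (fun x => check x.1 x.2) = true := by decide +kernel

theorem table_cover : table.map Prod.fst = List.range' 2 1091 := by decide +kernel

theorem prime_of_isP {p : Nat} (h : isP p = true) : p.Prime := by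
  simp only [isP, Bool.and_eq_true, decide_eq_true_eq, List.all_eq_true, Bool.or_eq_true,
    List.mem_range] at h
  refine Nat.prime_def_lt.2 ⟨h.1, fun d hd hdvd => ?_⟩
  rcases h.2 d hd with hlt | hne
  · rcases Nat.eq_zero_or_pos d with rfl | hpos
    · rw [Nat.zero_dvd] at hdvd; omega
    · omega
  · exact absurd (Nat.mod_eq_zero_of_dvd hdvd) hne

theorem mem_open_of_check {G : Type*} [Group G] [Finite G] [IsSimpleGroup G]
    (hG : ¬ IsMulCommutative G) {c : Cert} (h : check (Nat.card G) c = true) :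
    Nat.card G ∈ openOrders := by
  cases c with
  | pq p a q b =>
    simp only [check, Bool.and_eq_true, decide_eq_true_eq] at h
    exfalso
    exact hG (IsMulCommutative.of_comm (IsSimpleGroup.comm_iff_isSolvable.2
      (CharTheory.isSolvable_of_card_dvd_pow_mul_pow p q a b (prime_of_isP h.1.1) (prime_of_isP h.1.2)
        (dvd_of_eq h.2))))
  | ev =>
    simp only [check, Bool.and_eq_true, decide_eq_true_eq] at h
    exfalso
    rcases Cfsg.Agent.S0499.result hG (Nat.even_iff.2 h.1.1.1) with h' | h' | h' <;> omega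
  | sqMul p q r =>
    simp only [check, Bool.and_eq_true, decide_eq_true_eq] at h
    exact absurd (Cfsg.Agent.S0988.result p q r (prime_of_isP h.1.1.1.1) (prime_of_isP h.1.1.1.2)
      (prime_of_isP h.1.1.2) h.1.2) h.2
  | syl p a m =>
    simp only [check, Bool.and_eq_true, decide_eq_true_eq, List.all_eq_true, List.mem_range,
      Bool.not_eq_true'] at h
    obtain ⟨⟨⟨⟨hp, hn⟩, hm⟩, ha⟩, hall⟩ := h
    exfalso
    have : Fact p.Prime := ⟨prime_of_isP hp⟩
    have hs := sylow_mem_cand hG hn (fun hd => hm (Nat.mod_eq_zero_of_dvd hd)) ha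
    rw [List.mem_filter, List.mem_range] at hs
    rw [hall _ hs.1] at hs
    exact Bool.false_ne_true hs.2
  | unresolved => exact List.mem_of_elem_eq_true h

/-- A non-abelian simple group of order at most 1092 has one of 26 orders. -/
theorem card_mem_openOrders {G : Type*} [Group G] [Finite G] [IsSimpleGroup G]
    (hG : ¬ IsMulCommutative G) (h : Nat.card G ≤ 1092) : Nat.card G ∈ openOrders := by
  have h2 : 2 ≤ Nat.card G := Finite.one_lt_card
  have hm : Nat.card G ∈ table.map Prod.fst := by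
    rw [table_cover, List.mem_range']
    exact ⟨Nat.card G - 2, by omega, by omega⟩
  obtain ⟨x, hx, hxn⟩ := List.mem_map.1 hm
  refine mem_open_of_check hG (c := x.2) ?_
  rw [← hxn]
  simp only [table, List.mem_append] at hx
  rcases hx with (((((((((h0 | h1) | h2) | h3) | h4) | h5) | h6) | h7) | h8) | h9) | h10
  · exact List.all_eq_true.1 table0_ok x h0
  · exact List.all_eq_true.1 table1_ok x h1
  · exact List.all_eq_true.1 table2_ok x h2
  · exact List.all_eq_true.1 table3_ok x h3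
  · exact List.all_eq_true.1 table4_ok x h4
  · exact List.all_eq_true.1 table5_ok x h5
  · exact List.all_eq_true.1 table6_ok x h6
  · exact List.all_eq_true.1 table7_ok x h7
  · exact List.all_eq_true.1 table8_ok x h8
  · exact List.all_eq_true.1 table9_ok x h9
  · exact List.all_eq_true.1 table10_ok x h10

end CfsgLib.KGroups.SmallOrders
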