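import Cfsg.Prelude.Def_Local

/-! Sections of `Cfsg.IsKGroupWith`: subgroups, quotients, extensions, and changes of universe. -/

set_option autoImplicit false

namespace CfsgLib.KGroups

universe u v w

theorem quotient_isMulCommutative_congr {A : Type u} {B : Type v} [Group A] [Group B]
    (e : A ≃* B) (h : IsMulCommutative A) : IsMulCommutative B :=
  IsMulCommutative.of_comm fun a b => by
    apply e.symm.injective
    rw [map_mul, map_mul]
    exact h.is_comm.comm _ _

/-- A non-abelian simple homomorphic image of a subgroup of a `K`-group satisfies `K`. -/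
theorem isKGroupWith_apply {K : ∀ (X : Type u) [Group X], Prop}
    {K' : ∀ (X : Type v) [Group X], Prop}
    (hK : ∀ (X : Type u) [Group X] (Y : Type v) [Group Y], (X ≃* Y) → K X → K' Y)
    {G : Type u} [Group G] (hG : Cfsg.IsKGroupWith K G) {H : Subgroup G} {X : Type v} [Group X]
    (φ : H →* X) (hφ : Function.Surjective φ) (hs : IsSimpleGroup X) (hc : ¬ IsMulCommutative X) :
    K' X := by
  have e : H ⧸ φ.ker ≃* X := QuotientGroup.quotientKerEquivOfSurjective φ hφ
  exact hK _ _ e (hG H φ.ker (e.isSimpleGroup_congr.2 hs)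
    fun h => hc (quotient_isMulCommutative_congr e h))

/-- Homomorphic images of `K`-groups are `K`-groups. -/
theorem isKGroupWith_of_surjective {K : ∀ (X : Type u) [Group X], Prop}
    {K' : ∀ (X : Type v) [Group X], Prop}
    (hK : ∀ (X : Type u) [Group X] (Y : Type v) [Group Y], (X ≃* Y) → K X → K' Y)
    {G : Type u} {G' : Type v} [Group G] [Group G'] (f : G →* G') (hf : Function.Surjective f)
    (hG : Cfsg.IsKGroupWith K G) : Cfsg.IsKGroupWith K' G' := by
  intro H N hN hs hc
  refine isKGroupWith_apply hK hG ((QuotientGroup.mk' N).comp (f.subgroupComap H)) ?_ hs hc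
  exact (QuotientGroup.mk'_surjective N).comp (f.subgroupComap_surjective_of_surjective H hf)

/-- Groups embedded in `K`-groups are `K`-groups. -/
theorem isKGroupWith_of_injective {K : ∀ (X : Type u) [Group X], Prop}
    {K' : ∀ (X : Type v) [Group X], Prop}
    (hK : ∀ (X : Type u) [Group X] (Y : Type v) [Group Y], (X ≃* Y) → K X → K' Y)
    {G : Type u} {G' : Type v} [Group G] [Group G'] (f : G' →* G) (hf : Function.Injective f)
    (hG : Cfsg.IsKGroupWith K G) : Cfsg.IsKGroupWith K' G' := by
  intro H N hN hs hc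
  refine isKGroupWith_apply hK hG
    ((QuotientGroup.mk' N).comp (H.equivMapOfInjective f hf).symm.toMonoidHom) ?_ hs hc
  exact (QuotientGroup.mk'_surjective N).comp (H.equivMapOfInjective f hf).symm.surjective

theorem isKGroupWith_of_mulEquiv {K : ∀ (X : Type u) [Group X], Prop}
    {K' : ∀ (X : Type v) [Group X], Prop}
    (hK : ∀ (X : Type u) [Group X] (Y : Type v) [Group Y], (X ≃* Y) → K X → K' Y)
    {G : Type u} {G' : Type v} [Group G] [Group G'] (e : G ≃* G') (hG : Cfsg.IsKGroupWith K G) :
    Cfsg.IsKGroupWith K' G' :=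
  isKGroupWith_of_surjective hK e.toMonoidHom e.surjective hG

theorem isKGroupWith_mono {K K' : ∀ (X : Type u) [Group X], Prop}
    (h : ∀ (X : Type u) [Group X], IsSimpleGroup X → ¬ IsMulCommutative X → K X → K' X)
    {G : Type u} [Group G] (hG : Cfsg.IsKGroupWith K G) : Cfsg.IsKGroupWith K' G :=
  fun H N _ hs hc => h _ hs hc (hG H N hs hc)

theorem isKGroupWith_of_isSolvable (K : ∀ (X : Type u) [Group X], Prop) {G : Type u} [Group G]
    [Group.IsSolvable G] : Cfsg.IsKGroupWith K G := by
  intro H N hN hs hc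
  exact absurd (IsMulCommutative.of_comm fun a b =>
    (IsSimpleGroup.comm_iff_isSolvable.2 inferInstance) a b) hc

/-- An extension of a `K`-group by a `K`-group is a `K`-group. -/
theorem isKGroupWith_of_extension {K : ∀ (X : Type u) [Group X], Prop}
    (hK : ∀ (X : Type u) [Group X] (Y : Type u) [Group Y], (X ≃* Y) → K X → K Y)
    {G Q : Type u} [Group G] [Group Q] (f : G →* Q)
    (hker : Cfsg.IsKGroupWith K f.ker) (hQ : Cfsg.IsKGroupWith K Q) :
    Cfsg.IsKGroupWith K G := by
  intro H N hN hs hc
  let φ : H →* Q := f.comp H.subtype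
  have := hs
  rcases (Subgroup.Normal.map φ.normal_ker _
    (QuotientGroup.mk'_surjective N)).eq_bot_or_eq_top with h | h
  · have hle : φ.ker ≤ N := by
      intro x hx
      have : QuotientGroup.mk' N x = 1 := by
        rw [← Subgroup.mem_bot, ← h]; exact Subgroup.mem_map_of_mem _ hx
      exact (QuotientGroup.eq_one_iff x).1 this
    let e : H ⧸ φ.ker ≃* φ.range := QuotientGroup.quotientKerEquivRange φ
    let p : H ⧸ φ.ker →* H ⧸ N :=
      QuotientGroup.map φ.ker N (MonoidHom.id H) (by simpa using hle)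
    refine isKGroupWith_apply hK hQ (p.comp e.symm.toMonoidHom) ?_ hs hc
    intro x
    obtain ⟨y, rfl⟩ := QuotientGroup.mk'_surjective N x
    refine ⟨e (QuotientGroup.mk' _ y), ?_⟩
    show p (e.symm (e _)) = _
    rw [MulEquiv.symm_apply_apply]
    rfl
  · let j : φ.ker →* f.ker :=
      (H.subtype.comp φ.ker.subtype).codRestrict f.ker fun x => x.2
    have hj : Function.Injective j := fun a b hab => by
      have := congrArg (fun z : f.ker => (z : G)) hab
      exact Subtype.ext (Subtype.ext this)
    refine isKGroupWith_apply hK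
      (isKGroupWith_of_injective (K' := K) hK j hj hker) (H := ⊤)
      ((QuotientGroup.mk' N).comp (φ.ker.subtype.comp (Subgroup.subtype ⊤))) ?_ hs hc
    intro x
    obtain ⟨y, hy, rfl⟩ := (h ▸ Subgroup.mem_top x : x ∈ φ.ker.map (QuotientGroup.mk' N))
    exact ⟨⟨⟨y, hy⟩, Subgroup.mem_top _⟩, rfl⟩

theorem isKGroupWith_prod {K : ∀ (X : Type u) [Group X], Prop}
    (hK : ∀ (X : Type u) [Group X] (Y : Type u) [Group Y], (X ≃* Y) → K X → K Y)
    {A B : Type u} [Group A] [Group B] (hA : Cfsg.IsKGroupWith K A)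
    (hB : Cfsg.IsKGroupWith K B) : Cfsg.IsKGroupWith K (A × B) := by
  refine isKGroupWith_of_extension hK (MonoidHom.snd A B) ?_ hB
  refine isKGroupWith_of_surjective hK
    ((MonoidHom.inl A B).codRestrict (MonoidHom.snd A B).ker fun a => rfl) ?_ hA
  rintro ⟨⟨a, b⟩, hb⟩
  obtain rfl : b = 1 := hb
  exact ⟨a, rfl⟩

theorem isCompositionKGroupWith_of_isKGroupWith {K : ∀ (X : Type u) [Group X], Prop}
    {G : Type u} [Group G] (hG : Cfsg.IsKGroupWith K G) : Cfsg.IsCompositionKGroupWith K G :=
  fun H _ N _ hs hc => hG H N hs hc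

theorem isKProperWith_of_isKGroupWith {K : ∀ (X : Type u) [Group X], Prop}
    (hK : ∀ (X : Type u) [Group X] (Y : Type u) [Group Y], (X ≃* Y) → K X → K Y)
    {G : Type u} [Group G] (hG : Cfsg.IsKGroupWith K G) : Cfsg.IsKProperWith K G :=
  fun H _ => isKGroupWith_of_injective hK H.subtype H.subtype_injective hG

/-- For a simple group, being a `K`-group is being `K`-proper and satisfying `K` unless abelian. -/
theorem isKGroupWith_of_isKProperWith {K : ∀ (X : Type u) [Group X], Prop}
    (hK : ∀ (X : Type u) [Group X] (Y : Type u) [Group Y], (X ≃* Y) → K X → K Y)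
    {G : Type u} [Group G] [IsSimpleGroup G] (hG : Cfsg.IsKProperWith K G)
    (hKG : ¬ IsMulCommutative G → K G) : Cfsg.IsKGroupWith K G := by
  intro H N hN hs hc
  rcases eq_or_ne H ⊤ with rfl | hH
  · have : IsSimpleGroup (⊤ : Subgroup G) :=
      (Subgroup.topEquiv (G := G)).isSimpleGroup_congr.2 inferInstance
    rcases hN.eq_bot_or_eq_top with rfl | rfl
    · let e : G ≃* (⊤ : Subgroup G) ⧸ (⊥ : Subgroup (⊤ : Subgroup G)) :=
        Subgroup.topEquiv.symm.trans QuotientGroup.quotientBot.symm
      exact hK _ _ e (hKG fun h => hc (quotient_isMulCommutative_congr e h))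
    · have : Subsingleton ((⊤ : Subgroup G) ⧸ (⊤ : Subgroup (⊤ : Subgroup G))) :=
        QuotientGroup.subsingleton_quotient_top
      have := hs.toNontrivial
      exact absurd ‹Subsingleton _› (not_subsingleton _)
  · exact isKGroupWith_apply hK (hG H hH) (H := ⊤)
      ((QuotientGroup.mk' N).comp (Subgroup.topEquiv (G := H)).toMonoidHom)
      ((QuotientGroup.mk'_surjective N).comp (Subgroup.topEquiv (G := H)).surjective) hs hc

end CfsgLib.KGroups
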