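import Cfsg.Agent.Lib.KGroups.Iso
import Cfsg.Agent.Lib.KGroups.Sections

/-! `Cfsg.IsKGroup`, `Cfsg.IsKProper` and minimal counterexamples for `Cfsg.IsKnownSimple'`. -/

set_option autoImplicit false

namespace CfsgLib.KGroups

universe u v

theorem known_invariant : ∀ (X : Type u) [Group X] (Y : Type v) [Group Y],
    (X ≃* Y) → Cfsg.IsKnownSimple' X → Cfsg.IsKnownSimple' Y :=
  fun _ _ _ _ e => isKnownSimple'_congr e

variable {G : Type u} {G' : Type v} [Group G] [Group G']

theorem isKGroup_of_surjective (f : G →* G') (hf : Function.Surjective f) (hG : Cfsg.IsKGroup G) :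
    Cfsg.IsKGroup G' :=
  isKGroupWith_of_surjective known_invariant f hf hG

theorem isKGroup_of_injective (f : G' →* G) (hf : Function.Injective f) (hG : Cfsg.IsKGroup G) :
    Cfsg.IsKGroup G' :=
  isKGroupWith_of_injective known_invariant f hf hG

theorem isKGroup_of_mulEquiv (e : G ≃* G') (hG : Cfsg.IsKGroup G) : Cfsg.IsKGroup G' :=
  isKGroup_of_surjective e.toMonoidHom e.surjective hG

theorem isKGroup_subgroup (hG : Cfsg.IsKGroup G) (H : Subgroup G) : Cfsg.IsKGroup H :=
  isKGroup_of_injective H.subtype H.subtype_injective hG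

theorem isKGroup_of_le {H K : Subgroup G} (h : H ≤ K) (hK : Cfsg.IsKGroup K) : Cfsg.IsKGroup H :=
  isKGroup_of_injective (Subgroup.inclusion h) (Subgroup.inclusion_injective h) hK

theorem isKGroup_quotient (hG : Cfsg.IsKGroup G) (N : Subgroup G) [N.Normal] :
    Cfsg.IsKGroup (G ⧸ N) :=
  isKGroup_of_surjective _ (QuotientGroup.mk'_surjective N) hG

theorem isKGroup_of_isSolvable [Group.IsSolvable G] : Cfsg.IsKGroup G :=
  isKGroupWith_of_isSolvable _

theorem isKGroup_of_extension (N : Subgroup G) [N.Normal] (hN : Cfsg.IsKGroup N)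
    (hQ : Cfsg.IsKGroup (G ⧸ N)) : Cfsg.IsKGroup G := by
  refine isKGroupWith_of_extension known_invariant (QuotientGroup.mk' N) ?_ hQ
  exact isKGroup_of_mulEquiv (MulEquiv.subgroupCongr (QuotientGroup.ker_mk' N).symm) hN

theorem isKGroup_prod {A B : Type u} [Group A] [Group B] (hA : Cfsg.IsKGroup A)
    (hB : Cfsg.IsKGroup B) : Cfsg.IsKGroup (A × B) :=
  isKGroupWith_prod known_invariant hA hB

theorem isCompositionKGroup_of_isKGroup (hG : Cfsg.IsKGroup G) : Cfsg.IsCompositionKGroup G :=
  isCompositionKGroupWith_of_isKGroupWith hG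

theorem isKProper_of_isKGroup (hG : Cfsg.IsKGroup G) : Cfsg.IsKProper G :=
  fun H _ => isKGroup_subgroup hG H

theorem isCompositionKProper_of_isKProper (hG : Cfsg.IsKProper G) : Cfsg.IsCompositionKProper G :=
  fun H hH => isCompositionKGroup_of_isKGroup (hG H hH)

theorem isKGroup_of_isKProper [IsSimpleGroup G] (hG : Cfsg.IsKProper G)
    (h : ¬ IsMulCommutative G → Cfsg.IsKnownSimple' G) : Cfsg.IsKGroup G :=
  isKGroupWith_of_isKProperWith known_invariant hG h

/-- A finite group has a copy in every universe. -/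
theorem exists_mulEquiv_universe (X : Type v) [Group X] [Finite X] :
    ∃ (Y : Type u) (_ : Group Y) (_ : Finite Y), Nonempty (X ≃* Y) := by
  obtain ⟨n, ⟨e⟩⟩ := Finite.exists_equiv_fin X
  let f : ULift.{u} (Fin n) ≃ X := Equiv.ulift.trans e.symm
  refine ⟨ULift.{u} (Fin n), f.group, inferInstance, ⟨@MulEquiv.mk X (ULift.{u} (Fin n)) _ f.mul f.symm fun a b => ?_⟩⟩
  show f.symm (a * b) = f.symm (f (f.symm a) * f (f.symm b))
  rw [f.apply_symm_apply, f.apply_symm_apply]

/-- The smaller non-abelian simple groups of every universe are known. -/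
theorem isMinCounterexample_known (hG : Cfsg.IsMinCounterexample G) (X : Type v) [Group X]
    [Finite X] (hs : IsSimpleGroup X) (hc : ¬ IsMulCommutative X)
    (hlt : Nat.card X < Nat.card G) : Cfsg.IsKnownSimple' X := by
  obtain ⟨Y, iY, fY, ⟨e⟩⟩ := exists_mulEquiv_universe.{u} X
  exact isKnownSimple'_congr e.symm (hG.2.2.2.2 Y (isSimpleGroup_congr e hs)
    (not_isMulCommutative_congr e hc) (Nat.card_congr e.toEquiv ▸ hlt))

/-- Groups smaller than a minimal counterexample are `K`-groups. -/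
theorem isKGroup_of_card_lt (hG : Cfsg.IsMinCounterexample G) (X : Type v) [Group X] [Finite X]
    (hlt : Nat.card X < Nat.card G) : Cfsg.IsKGroup X := fun H N _ hs hc =>
  isMinCounterexample_known hG _ hs hc (lt_of_le_of_lt
    ((Nat.card_le_card_of_surjective _ (QuotientGroup.mk'_surjective N)).trans
      (Nat.card_le_card_of_injective _ H.subtype_injective)) hlt)

theorem card_lt_of_ne_top [Finite G] {H : Subgroup G} (hH : H ≠ ⊤) : Nat.card H < Nat.card G :=
  lt_of_le_of_ne H.card_le_card_group fun h => hH (Subgroup.eq_top_of_card_eq H h)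

theorem isKProper_of_isMinCounterexample (hG : Cfsg.IsMinCounterexample G) :
    Cfsg.IsKProper G := fun H hH => by
  have := hG.1
  exact isKGroup_of_card_lt hG H (card_lt_of_ne_top hH)

/-- An unknown non-abelian finite simple group yields a minimal counterexample. -/
theorem exists_isMinCounterexample [Finite G] [IsSimpleGroup G] (hc : ¬ IsMulCommutative G)
    (hk : ¬ Cfsg.IsKnownSimple' G) :
    ∃ (X : Type u) (_ : Group X), Cfsg.IsMinCounterexample X := by
  let P : ℕ → Prop := fun n => ∃ (X : Type u) (_ : Group X) (_ : Finite X), IsSimpleGroup X ∧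
    ¬ IsMulCommutative X ∧ ¬ Cfsg.IsKnownSimple' X ∧ Nat.card X = n
  classical
  have hP : ∃ n, P n := ⟨Nat.card G, G, ‹_›, ‹_›, ‹_›, hc, hk, rfl⟩
  obtain ⟨X, iX, fX, h1, h2, h3, h4⟩ := Nat.find_spec hP
  refine ⟨X, iX, fX, h1, h2, h3, fun Y iY fY hs hcY hlt => ?_⟩
  by_contra h
  exact Nat.find_min hP (h4 ▸ hlt) ⟨Y, iY, fY, hs, hcY, h, rfl⟩

end CfsgLib.KGroups
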